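import Cfsg.Agent.Spor.C3Sc.D0

set_option autoImplicit false
set_option maxRecDepth 100000000
set_option Elab.async false

namespace Cfsg.Agent.Spor.C3Sc

theorem ok0 : Net.okb 10 n0 = true := by decide +kernel

theorem ok1 : Net.okb 10 n1 = true := by decide +kernel

theorem ok2 : Net.okb 10 n2 = true := by decide +kernel

theorem ok3 : Net.okb 10 n3 = true := by decide +kernel

theorem ok4 : Net.okb 10 n4 = true := by decide +kernel

theorem rel0 : T.rel 10 [1, 1] 0 10 = true := by decide +kernel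

theorem rel1 : T.rel 10 [2, 2] 0 10 = true := by decide +kernel

theorem rel2 : T.rel 10 [3, 3] 0 10 = true := by decide +kernel

theorem rel3 : T.rel 10 [4, 4] 0 10 = true := by decide +kernel

theorem rel4 : T.rel 10 [5, 5, 5] 0 10 = true := by decide +kernel

theorem rel5 : T.rel 10 [2, 4, 2, 4] 0 10 = true := by decide +kernel

theorem rel6 : T.rel 10 [2, 5, 2, 5, 2, 5] 0 10 = true := by decide +kernel

theorem rel7 : T.rel 10 [2, 3, 2, 3] 0 10 = true := by decide +kernel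

theorem rel8 : T.rel 10 [3, 4, 5, 3, 6, 4] 0 10 = true := by decide +kernel

theorem rel9 : T.rel 10 [3, 5, 3, 6] 0 10 = true := by decide +kernel

theorem rel10 : T.rel 10 [1, 3, 5, 1, 6, 3] 0 10 = true := by decide +kernel

theorem rel11 : T.rel 10 [1, 4, 1, 4] 0 10 = true := by decide +kernel

theorem rel12 : T.rel 10 [1, 2, 1, 2] 0 10 = true := by decide +kernel

theorem rel13 : T.rel 10 [4, 5, 4, 5, 4, 5, 4, 5] 0 10 = true := by decide +kernel

theorem rel14 : T.rel 10 [2, 4, 5, 2, 4, 5, 2, 4, 5, 4, 2, 5] 0 10 = true := by decide +kernel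

theorem hcov : T.treeCov (ones 768) L 1 = true := by decide +kernel

theorem hg : lall (fun z => band (memL L z) (band (sub (ones 768) (T.let z).cl) (T.closed (ones 768) z))) gs = true := by decide +kernel

theorem rot1_1 : T.rot 1 [1] (sel (ones 768) ip1 1) = true := by decide +kernel

theorem rot1_1r : band (Rule.ok (2 * 4) EX RL ⟨1 :: [1], [], 11, false⟩) (lall (memL L) [1]) = true := by decide +kernel

theorem rot1_2 : T.rot 1 [4, 1, 4] (sel (ones 768) ip1 2) = true := by decide +kernel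

theorem rot1_2r : band (Rule.ok (2 * 4) EX RL ⟨1 :: [4, 1, 4], [], 7, true⟩) (lall (memL L) [4, 1, 4]) = true := by decide +kernel

theorem rot1_3 : T.rot 1 [2, 1, 2] (sel (ones 768) ip1 3) = true := by decide +kernel

theorem rot1_3r : band (Rule.ok (2 * 4) EX RL ⟨1 :: [2, 1, 2], [], 8, true⟩) (lall (memL L) [2, 1, 2]) = true := by decide +kernel

theorem rot1_4 : T.rot 1 [3, 5, 1, 6, 3] (sel (ones 768) ip1 4) = true := by decide +kernel

theorem rot1_4r : band (Rule.ok (2 * 4) EX RL ⟨1 :: [3, 5, 1, 6, 3], [], 6, true⟩) (lall (memL L) [3, 5, 1, 6, 3]) = true := by decide +kernel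

theorem rot1_5 : T.rot 1 [6, 3, 1, 3, 5] (sel (ones 768) ip1 5) = true := by decide +kernel

theorem rot1_5r : band (Rule.ok (2 * 4) EX RL ⟨1 :: [6, 3, 1, 3, 5], [4, 9], 6, false⟩) (lall (memL L) [6, 3, 1, 3, 5]) = true := by decide +kernel

theorem cov1 : T.cover 1 [(sel (ones 768) ip1 1), (sel (ones 768) ip1 2), (sel (ones 768) ip1 3), (sel (ones 768) ip1 4), (sel (ones 768) ip1 5)] = true := by decide +kernel

theorem tl1 : T.treeLt 10 1 = true := by decide +kernel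

theorem rot2_1 : T.rot 2 [2] (sel (ones 768) ip2 1) = true := by decide +kernel

theorem rot2_1r : band (Rule.ok (2 * 4) EX RL ⟨2 :: [2], [], 11, false⟩) (lall (memL L) [2]) = true := by decide +kernel

theorem rot2_2 : T.rot 2 [4, 2, 4] (sel (ones 768) ip2 2) = true := by decide +kernel

theorem rot2_2r : band (Rule.ok (2 * 4) EX RL ⟨2 :: [4, 2, 4], [], 1, true⟩) (lall (memL L) [4, 2, 4]) = true := by decide +kernel

theorem rot2_3 : T.rot 2 [3, 2, 3] (sel (ones 768) ip2 3) = true := by decide +kernel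

theorem rot2_3r : band (Rule.ok (2 * 4) EX RL ⟨2 :: [3, 2, 3], [], 3, true⟩) (lall (memL L) [3, 2, 3]) = true := by decide +kernel

theorem rot2_4 : T.rot 2 [5, 2, 5, 2, 5] (sel (ones 768) ip2 4) = true := by decide +kernel

theorem rot2_4r : band (Rule.ok (2 * 4) EX RL ⟨2 :: [5, 2, 5, 2, 5], [], 2, true⟩) (lall (memL L) [5, 2, 5, 2, 5]) = true := by decide +kernel

theorem rot2_5 : T.rot 2 [6, 2, 6, 2, 6] (sel (ones 768) ip2 5) = true := by decide +kernel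

theorem rot2_5r : band (Rule.ok (2 * 4) EX RL ⟨2 :: [6, 2, 6, 2, 6], [2], 2, false⟩) (lall (memL L) [6, 2, 6, 2, 6]) = true := by decide +kernel

theorem rot2_6 : T.rot 2 [4, 5, 2, 4, 5, 2, 4, 5, 4, 2, 5] (sel (ones 768) ip2 6) = true := by decide +kernel

theorem rot2_6r : band (Rule.ok (2 * 4) EX RL ⟨2 :: [4, 5, 2, 4, 5, 2, 4, 5, 4, 2, 5], [], 10, true⟩) (lall (memL L) [4, 5, 2, 4, 5, 2, 4, 5, 4, 2, 5]) = true := by decide +kernel

theorem rot2_7 : T.rot 2 [4, 5, 4, 2, 5, 2, 4, 5, 2, 4, 5] (sel (ones 768) ip2 7) = true := by decide +kernel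

theorem rot2_7r : band (Rule.ok (2 * 4) EX RL ⟨2 :: [4, 5, 4, 2, 5, 2, 4, 5, 2, 4, 5], [8, 2, 6, 8, 6, 2], 10, true⟩) (lall (memL L) [4, 5, 4, 2, 5, 2, 4, 5, 2, 4, 5]) = true := by decide +kernel

theorem rot2_8 : T.rot 2 [5, 2, 4, 5, 2, 4, 5, 2, 4, 5, 4] (sel (ones 768) ip2 8) = true := by decide +kernel

theorem rot2_8r : band (Rule.ok (2 * 4) EX RL ⟨2 :: [5, 2, 4, 5, 2, 4, 5, 2, 4, 5, 4], [8, 2], 10, true⟩) (lall (memL L) [5, 2, 4, 5, 2, 4, 5, 2, 4, 5, 4]) = true := by decide +kernel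

theorem rot2_9 : T.rot 2 [4, 6, 4, 2, 6, 4, 2, 6, 4, 2, 6] (sel (ones 768) ip2 9) = true := by decide +kernel

theorem rot2_9r : band (Rule.ok (2 * 4) EX RL ⟨2 :: [4, 6, 4, 2, 6, 4, 2, 6, 4, 2, 6], [8], 10, false⟩) (lall (memL L) [4, 6, 4, 2, 6, 4, 2, 6, 4, 2, 6]) = true := by decide +kernel

theorem rot2_10 : T.rot 2 [6, 4, 2, 6, 4, 2, 6, 2, 4, 6, 4] (sel (ones 768) ip2 10) = true := by decide +kernel

theorem rot2_10r : band (Rule.ok (2 * 4) EX RL ⟨2 :: [6, 4, 2, 6, 4, 2, 6, 2, 4, 6, 4], [8, 2, 6, 8, 6], 10, false⟩) (lall (memL L) [6, 4, 2, 6, 4, 2, 6, 2, 4, 6, 4]) = true := by decide +kernel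

theorem rot2_11 : T.rot 2 [6, 4, 2, 6, 2, 4, 6, 4, 2, 6, 4] (sel (ones 768) ip2 11) = true := by decide +kernel

theorem rot2_11r : band (Rule.ok (2 * 4) EX RL ⟨2 :: [6, 4, 2, 6, 2, 4, 6, 4, 2, 6, 4], [2, 6, 9, 2], 10, false⟩) (lall (memL L) [6, 4, 2, 6, 2, 4, 6, 4, 2, 6, 4]) = true := by decide +kernel

theorem rot2_12 : T.rot 2 [6, 2, 4, 6, 4, 2, 6, 4, 2, 6, 4] (sel (ones 768) ip2 12) = true := by decide +kernel

theorem rot2_12r : band (Rule.ok (2 * 4) EX RL ⟨2 :: [6, 2, 4, 6, 4, 2, 6, 4, 2, 6, 4], [2], 10, false⟩) (lall (memL L) [6, 2, 4, 6, 4, 2, 6, 4, 2, 6, 4]) = true := by decide +kernel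

theorem cov2 : T.cover 2 [(sel (ones 768) ip2 1), (sel (ones 768) ip2 2), (sel (ones 768) ip2 3), (sel (ones 768) ip2 4), (sel (ones 768) ip2 5), (sel (ones 768) ip2 6), (sel (ones 768) ip2 7), (sel (ones 768) ip2 8), (sel (ones 768) ip2 9), (sel (ones 768) ip2 10), (sel (ones 768) ip2 11), (sel (ones 768) ip2 12)] = true := by decide +kernel

theorem tl2 : T.treeLt 10 2 = true := by decide +kernel

theorem rot3_1 : T.rot 3 [3] (sel (ones 768) ip3 1) = true := by decide +kernel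

theorem rot3_1r : band (Rule.ok (2 * 4) EX RL ⟨3 :: [3], [], 11, false⟩) (lall (memL L) [3]) = true := by decide +kernel

theorem rot3_2 : T.rot 3 [2, 3, 2] (sel (ones 768) ip3 2) = true := by decide +kernel

theorem rot3_2r : band (Rule.ok (2 * 4) EX RL ⟨3 :: [2, 3, 2], [], 3, false⟩) (lall (memL L) [2, 3, 2]) = true := by decide +kernel

theorem rot3_3 : T.rot 3 [5, 3, 6] (sel (ones 768) ip3 3) = true := by decide +kernel

theorem rot3_3r : band (Rule.ok (2 * 4) EX RL ⟨3 :: [5, 3, 6], [], 5, true⟩) (lall (memL L) [5, 3, 6]) = true := by decide +kernel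

theorem rot3_4 : T.rot 3 [6, 3, 5] (sel (ones 768) ip3 4) = true := by decide +kernel

theorem rot3_4r : band (Rule.ok (2 * 4) EX RL ⟨3 :: [6, 3, 5], [9], 5, false⟩) (lall (memL L) [6, 3, 5]) = true := by decide +kernel

theorem rot3_5 : T.rot 3 [4, 5, 3, 6, 4] (sel (ones 768) ip3 5) = true := by decide +kernel

theorem rot3_5r : band (Rule.ok (2 * 4) EX RL ⟨3 :: [4, 5, 3, 6, 4], [], 4, true⟩) (lall (memL L) [4, 5, 3, 6, 4]) = true := by decide +kernel

theorem rot3_6 : T.rot 3 [6, 4, 3, 4, 5] (sel (ones 768) ip3 6) = true := by decide +kernel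

theorem rot3_6r : band (Rule.ok (2 * 4) EX RL ⟨3 :: [6, 4, 3, 4, 5], [6, 9], 4, false⟩) (lall (memL L) [6, 4, 3, 4, 5]) = true := by decide +kernel

theorem cov3 : T.cover 3 [(sel (ones 768) ip3 1), (sel (ones 768) ip3 2), (sel (ones 768) ip3 3), (sel (ones 768) ip3 4), (sel (ones 768) ip3 5), (sel (ones 768) ip3 6)] = true := by decide +kernel

theorem tl3 : T.treeLt 10 3 = true := by decide +kernel

theorem rot4_1 : T.rot 4 [4] (sel (ones 768) ip4 1) = true := by decide +kernel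

theorem rot4_1r : band (Rule.ok (2 * 4) EX RL ⟨4 :: [4], [], 11, false⟩) (lall (memL L) [4]) = true := by decide +kernel

theorem rot4_2 : T.rot 4 [2, 4, 2] (sel (ones 768) ip4 2) = true := by decide +kernel

theorem rot4_2r : band (Rule.ok (2 * 4) EX RL ⟨4 :: [2, 4, 2], [], 1, false⟩) (lall (memL L) [2, 4, 2]) = true := by decide +kernel

theorem rot4_3 : T.rot 4 [5, 4, 5, 4, 5, 4, 5] (sel (ones 768) ip4 3) = true := by decide +kernel

theorem rot4_3r : band (Rule.ok (2 * 4) EX RL ⟨4 :: [5, 4, 5, 4, 5, 4, 5], [], 9, true⟩) (lall (memL L) [5, 4, 5, 4, 5, 4, 5]) = true := by decide +kernel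

theorem rot4_4 : T.rot 4 [6, 4, 6, 4, 6, 4, 6] (sel (ones 768) ip4 4) = true := by decide +kernel

theorem rot4_4r : band (Rule.ok (2 * 4) EX RL ⟨4 :: [6, 4, 6, 4, 6, 4, 6], [6], 9, false⟩) (lall (memL L) [6, 4, 6, 4, 6, 4, 6]) = true := by decide +kernel

theorem rot4_5 : T.rot 4 [5, 2, 4, 5, 2, 4, 5, 4, 2, 5, 2] (sel (ones 768) ip4 5) = true := by decide +kernel

theorem rot4_5r : band (Rule.ok (2 * 4) EX RL ⟨4 :: [5, 2, 4, 5, 2, 4, 5, 4, 2, 5, 2], [2], 10, true⟩) (lall (memL L) [5, 2, 4, 5, 2, 4, 5, 4, 2, 5, 2]) = true := by decide +kernel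

theorem rot4_6 : T.rot 4 [5, 2, 4, 5, 4, 2, 5, 2, 4, 5, 2] (sel (ones 768) ip4 6) = true := by decide +kernel

theorem rot4_6r : band (Rule.ok (2 * 4) EX RL ⟨4 :: [5, 2, 4, 5, 4, 2, 5, 2, 4, 5, 2], [2, 6, 9, 2], 10, true⟩) (lall (memL L) [5, 2, 4, 5, 4, 2, 5, 2, 4, 5, 2]) = true := by decide +kernel

theorem rot4_7 : T.rot 4 [5, 4, 2, 5, 2, 4, 5, 2, 4, 5, 2] (sel (ones 768) ip4 7) = true := by decide +kernel

theorem rot4_7r : band (Rule.ok (2 * 4) EX RL ⟨4 :: [5, 4, 2, 5, 2, 4, 5, 2, 4, 5, 2], [8, 2, 6, 8, 6], 10, true⟩) (lall (memL L) [5, 4, 2, 5, 2, 4, 5, 2, 4, 5, 2]) = true := by decide +kernel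

theorem rot4_8 : T.rot 4 [2, 5, 2, 4, 5, 2, 4, 5, 2, 4, 5] (sel (ones 768) ip4 8) = true := by decide +kernel

theorem rot4_8r : band (Rule.ok (2 * 4) EX RL ⟨4 :: [2, 5, 2, 4, 5, 2, 4, 5, 2, 4, 5], [8, 2, 6], 10, true⟩) (lall (memL L) [2, 5, 2, 4, 5, 2, 4, 5, 2, 4, 5]) = true := by decide +kernel

theorem rot4_9 : T.rot 4 [6, 4, 2, 6, 4, 2, 6, 4, 2, 6, 2] (sel (ones 768) ip4 9) = true := by decide +kernel

theorem rot4_9r : band (Rule.ok (2 * 4) EX RL ⟨4 :: [6, 4, 2, 6, 4, 2, 6, 4, 2, 6, 2], [8, 2], 10, false⟩) (lall (memL L) [6, 4, 2, 6, 4, 2, 6, 4, 2, 6, 2]) = true := by decide +kernel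

theorem rot4_10 : T.rot 4 [2, 6, 4, 2, 6, 4, 2, 6, 2, 4, 6] (sel (ones 768) ip4 10) = true := by decide +kernel

theorem rot4_10r : band (Rule.ok (2 * 4) EX RL ⟨4 :: [2, 6, 4, 2, 6, 4, 2, 6, 2, 4, 6], [8, 2, 6, 8], 10, false⟩) (lall (memL L) [2, 6, 4, 2, 6, 4, 2, 6, 2, 4, 6]) = true := by decide +kernel

theorem rot4_11 : T.rot 4 [2, 6, 4, 2, 6, 2, 4, 6, 4, 2, 6] (sel (ones 768) ip4 11) = true := by decide +kernel

theorem rot4_11r : band (Rule.ok (2 * 4) EX RL ⟨4 :: [2, 6, 4, 2, 6, 2, 4, 6, 4, 2, 6], [2, 6, 9, 2, 6], 10, false⟩) (lall (memL L) [2, 6, 4, 2, 6, 2, 4, 6, 4, 2, 6]) = true := by decide +kernel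

theorem rot4_12 : T.rot 4 [2, 6, 2, 4, 6, 4, 2, 6, 4, 2, 6] (sel (ones 768) ip4 12) = true := by decide +kernel

theorem rot4_12r : band (Rule.ok (2 * 4) EX RL ⟨4 :: [2, 6, 2, 4, 6, 4, 2, 6, 4, 2, 6], [2, 6], 10, false⟩) (lall (memL L) [2, 6, 2, 4, 6, 4, 2, 6, 4, 2, 6]) = true := by decide +kernel

theorem cov4 : T.cover 4 [(sel (ones 768) ip4 1), (sel (ones 768) ip4 2), (sel (ones 768) ip4 3), (sel (ones 768) ip4 4), (sel (ones 768) ip4 5), (sel (ones 768) ip4 6), (sel (ones 768) ip4 7), (sel (ones 768) ip4 8), (sel (ones 768) ip4 9), (sel (ones 768) ip4 10), (sel (ones 768) ip4 11), (sel (ones 768) ip4 12)] = true := by decide +kernel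

theorem tl4 : T.treeLt 10 4 = true := by decide +kernel

theorem rot5_1 : T.rot 5 [6] (sel (ones 768) ip5 1) = true := by decide +kernel

theorem rot5_1r : band (Rule.ok (2 * 4) EX RL ⟨5 :: [6], [], 11, false⟩) (lall (memL L) [6]) = true := by decide +kernel

theorem rot5_2 : T.rot 5 [5, 5] (sel (ones 768) ip5 2) = true := by decide +kernel

theorem rot5_2r : band (Rule.ok (2 * 4) EX RL ⟨5 :: [5, 5], [], 0, true⟩) (lall (memL L) [5, 5]) = true := by decide +kernel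

theorem rot5_3 : T.rot 5 [3, 6, 3] (sel (ones 768) ip5 3) = true := by decide +kernel

theorem rot5_3r : band (Rule.ok (2 * 4) EX RL ⟨5 :: [3, 6, 3], [], 5, false⟩) (lall (memL L) [3, 6, 3]) = true := by decide +kernel

theorem rot5_4 : T.rot 5 [2, 5, 2, 5, 2] (sel (ones 768) ip5 4) = true := by decide +kernel

theorem rot5_4r : band (Rule.ok (2 * 4) EX RL ⟨5 :: [2, 5, 2, 5, 2], [8], 2, true⟩) (lall (memL L) [2, 5, 2, 5, 2]) = true := by decide +kernel

theorem rot5_5 : T.rot 5 [4, 5, 4, 5, 4, 5, 4] (sel (ones 768) ip5 5) = true := by decide +kernel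

theorem rot5_5r : band (Rule.ok (2 * 4) EX RL ⟨5 :: [4, 5, 4, 5, 4, 5, 4], [8], 9, true⟩) (lall (memL L) [4, 5, 4, 5, 4, 5, 4]) = true := by decide +kernel

theorem rot5_6 : T.rot 5 [4, 2, 5, 2, 4, 5, 2, 4, 5, 2, 4] (sel (ones 768) ip5 6) = true := by decide +kernel

theorem rot5_6r : band (Rule.ok (2 * 4) EX RL ⟨5 :: [4, 2, 5, 2, 4, 5, 2, 4, 5, 2, 4], [8, 2, 6, 8], 10, true⟩) (lall (memL L) [4, 2, 5, 2, 4, 5, 2, 4, 5, 2, 4]) = true := by decide +kernel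

theorem rot5_7 : T.rot 5 [2, 4, 5, 2, 4, 5, 2, 4, 5, 4, 2] (sel (ones 768) ip5 7) = true := by decide +kernel

theorem rot5_7r : band (Rule.ok (2 * 4) EX RL ⟨5 :: [2, 4, 5, 2, 4, 5, 2, 4, 5, 4, 2], [8], 10, true⟩) (lall (memL L) [2, 4, 5, 2, 4, 5, 2, 4, 5, 4, 2]) = true := by decide +kernel

theorem cov5 : T.cover 5 [(sel (ones 768) ip5 1), (sel (ones 768) ip5 2), (sel (ones 768) ip5 3), (sel (ones 768) ip5 4), (sel (ones 768) ip5 5), (sel (ones 768) ip5 6), (sel (ones 768) ip5 7)] = true := by decide +kernel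

theorem tl5 : T.treeLt 10 5 = true := by decide +kernel

theorem rot6_1 : T.rot 6 [5] (sel (ones 768) ip6 1) = true := by decide +kernel

theorem rot6_1r : band (Rule.ok (2 * 4) EX RL ⟨6 :: [5], [], 11, false⟩) (lall (memL L) [5]) = true := by decide +kernel

theorem rot6_2 : T.rot 6 [6, 6] (sel (ones 768) ip6 2) = true := by decide +kernel

theorem rot6_2r : band (Rule.ok (2 * 4) EX RL ⟨6 :: [6, 6], [], 0, false⟩) (lall (memL L) [6, 6]) = true := by decide +kernel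

theorem rot6_3 : T.rot 6 [2, 6, 2, 6, 2] (sel (ones 768) ip6 3) = true := by decide +kernel

theorem rot6_3r : band (Rule.ok (2 * 4) EX RL ⟨6 :: [2, 6, 2, 6, 2], [], 2, false⟩) (lall (memL L) [2, 6, 2, 6, 2]) = true := by decide +kernel

theorem rot6_4 : T.rot 6 [4, 6, 4, 6, 4, 6, 4] (sel (ones 768) ip6 4) = true := by decide +kernel

theorem rot6_4r : band (Rule.ok (2 * 4) EX RL ⟨6 :: [4, 6, 4, 6, 4, 6, 4], [], 9, false⟩) (lall (memL L) [4, 6, 4, 6, 4, 6, 4]) = true := by decide +kernel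

theorem rot6_5 : T.rot 6 [2, 4, 6, 4, 2, 6, 4, 2, 6, 4, 2] (sel (ones 768) ip6 5) = true := by decide +kernel

theorem rot6_5r : band (Rule.ok (2 * 4) EX RL ⟨6 :: [2, 4, 6, 4, 2, 6, 4, 2, 6, 4, 2], [], 10, false⟩) (lall (memL L) [2, 4, 6, 4, 2, 6, 4, 2, 6, 4, 2]) = true := by decide +kernel

theorem rot6_6 : T.rot 6 [4, 2, 6, 4, 2, 6, 4, 2, 6, 2, 4] (sel (ones 768) ip6 6) = true := by decide +kernel

theorem rot6_6r : band (Rule.ok (2 * 4) EX RL ⟨6 :: [4, 2, 6, 4, 2, 6, 4, 2, 6, 2, 4], [8, 2, 6], 10, false⟩) (lall (memL L) [4, 2, 6, 4, 2, 6, 4, 2, 6, 2, 4]) = true := by decide +kernel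

theorem rot6_7 : T.rot 6 [4, 2, 6, 4, 2, 6, 2, 4, 6, 4, 2] (sel (ones 768) ip6 7) = true := by decide +kernel

theorem rot6_7r : band (Rule.ok (2 * 4) EX RL ⟨6 :: [4, 2, 6, 4, 2, 6, 2, 4, 6, 4, 2], [2, 6, 9, 2, 6, 9], 10, false⟩) (lall (memL L) [4, 2, 6, 4, 2, 6, 2, 4, 6, 4, 2]) = true := by decide +kernel

theorem cov6 : T.cover 6 [(sel (ones 768) ip6 1), (sel (ones 768) ip6 2), (sel (ones 768) ip6 3), (sel (ones 768) ip6 4), (sel (ones 768) ip6 5), (sel (ones 768) ip6 6), (sel (ones 768) ip6 7)] = true := by decide +kernel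

theorem tl6 : T.treeLt 10 6 = true := by decide +kernel

end Cfsg.Agent.Spor.C3Sc
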